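import Mathlib

set_option autoImplicit false

namespace Groth.Agent.H5.UR

open TensorProduct KaehlerDifferential

universe u

section

variable {A B : Type u} [CommRing A] [CommRing B] [Algebra A B] (𝔪 : Ideal A)

lemma tmul_D_eq_zero (x : B) (hx : x ∈ 𝔪.map (algebraMap A B)) :
    (1 : B ⧸ 𝔪.map (algebraMap A B)) ⊗ₜ[B] KaehlerDifferential.D A B x = 0 := by
  have key : ∀ y ∈ 𝔪.map (algebraMap A B), ∀ ω : Ω[B⁄A],
      (1 : B ⧸ 𝔪.map (algebraMap A B)) ⊗ₜ[B] (y • ω) = 0 := by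
    intro y hy ω
    rw [← TensorProduct.smul_tmul, Algebra.smul_def, mul_one, Ideal.Quotient.algebraMap_eq,
      Ideal.Quotient.eq_zero_iff_mem.mpr hy, TensorProduct.zero_tmul]
  unfold Ideal.map at hx
  induction hx using Submodule.span_induction with
  | mem x h =>
    obtain ⟨a, -, rfl⟩ := h
    rw [Derivation.map_algebraMap, TensorProduct.tmul_zero]
  | zero => rw [map_zero, TensorProduct.tmul_zero]
  | add x y _ _ hx hy => rw [map_add, TensorProduct.tmul_add, hx, hy, add_zero]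
  | smul b x hxs ih =>
    rw [smul_eq_mul, Derivation.leibniz, TensorProduct.tmul_add, TensorProduct.tmul_smul, ih,
      smul_zero, zero_add]
    exact key x hxs _

lemma subsingleton_tensor
    [Subsingleton (Ω[(B ⧸ 𝔪.map (algebraMap A B))⁄(A ⧸ 𝔪)])] :
    Subsingleton ((B ⧸ 𝔪.map (algebraMap A B)) ⊗[B] Ω[B⁄A]) := by
  haveI : Algebra.FormallyUnramified (A ⧸ 𝔪) (B ⧸ 𝔪.map (algebraMap A B)) := ⟨inferInstance⟩
  haveI : Algebra.FormallyUnramified A (A ⧸ 𝔪) :=
    Algebra.FormallyUnramified.of_surjective (Algebra.ofId A (A ⧸ 𝔪)) Ideal.Quotient.mk_surjective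
  haveI : Algebra.FormallyUnramified A (B ⧸ 𝔪.map (algebraMap A B)) :=
    Algebra.FormallyUnramified.comp A (A ⧸ 𝔪) _
  haveI : Subsingleton (Ω[(B ⧸ 𝔪.map (algebraMap A B))⁄A]) :=
    Algebra.FormallyUnramified.subsingleton_kaehlerDifferential
  have hsurj : Function.Surjective (algebraMap B (B ⧸ 𝔪.map (algebraMap A B))) :=
    Ideal.Quotient.mk_surjective
  refine ⟨fun s t => ?_⟩
  have h0 : ∀ t : (B ⧸ 𝔪.map (algebraMap A B)) ⊗[B] Ω[B⁄A], t = 0 := by
    intro t
    have h1 : mapBaseChange A B (B ⧸ 𝔪.map (algebraMap A B)) t = 0 := Subsingleton.elim _ _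
    obtain ⟨c, rfl⟩ := (exact_kerCotangentToTensor_mapBaseChange A B
      (B ⧸ 𝔪.map (algebraMap A B)) hsurj t).mp h1
    obtain ⟨x, rfl⟩ := Ideal.toCotangent_surjective _ c
    rw [kerCotangentToTensor_toCotangent]
    apply tmul_D_eq_zero
    have h2 : algebraMap B (B ⧸ 𝔪.map (algebraMap A B)) (x : B) = 0 := x.2
    exact Ideal.Quotient.eq_zero_iff_mem.mp h2
  rw [h0 s, h0 t]

lemma smul_top_eq_top
    [Subsingleton (Ω[(B ⧸ 𝔪.map (algebraMap A B))⁄(A ⧸ 𝔪)])] (k : ℕ) :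
    ((𝔪.map (algebraMap A B)) ^ k • (⊤ : Submodule B (Ω[B⁄A]))) = ⊤ := by
  have h1 : (𝔪.map (algebraMap A B)) • (⊤ : Submodule B (Ω[B⁄A])) = ⊤ := by
    haveI := subsingleton_tensor (B := B) 𝔪
    haveI : Subsingleton (Ω[B⁄A] ⧸ ((𝔪.map (algebraMap A B)) • (⊤ : Submodule B (Ω[B⁄A])))) :=
      (TensorProduct.quotTensorEquivQuotSMul (Ω[B⁄A]) (𝔪.map (algebraMap A B))).symm.subsingleton
    exact Submodule.Quotient.subsingleton_iff.mp inferInstance
  induction k with
  | zero => rw [pow_zero, Ideal.one_eq_top, Submodule.top_smul]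
  | succ k ih => rw [pow_succ, Submodule.mul_smul, h1, ih]

lemma derivation_eq_zero
    [Subsingleton (Ω[(B ⧸ 𝔪.map (algebraMap A B))⁄(A ⧸ 𝔪)])]
    {N : Type*} [AddCommGroup N] [Module B N] [Module A N] [IsScalarTower A B N] (k : ℕ)
    (hN : ∀ x ∈ (𝔪.map (algebraMap A B)) ^ k, ∀ n : N, x • n = 0) (D : Derivation A B N) :
    D = 0 := by
  have h : ∀ ω : Ω[B⁄A], D.liftKaehlerDifferential ω = 0 := by
    intro ω
    have hω : ω ∈ ((𝔪.map (algebraMap A B)) ^ k • (⊤ : Submodule B (Ω[B⁄A]))) := by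
      rw [smul_top_eq_top]; trivial
    refine Submodule.smul_induction_on hω ?_ ?_
    · intro x hx ω' _
      rw [map_smul]
      exact hN x hx _
    · intro a b ha hb
      rw [map_add, ha, hb, add_zero]
  ext b
  rw [← Derivation.liftKaehlerDifferential_comp_D D b, h]
  rfl

end

end Groth.Agent.H5.UR
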