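import Mathlib
import Groth.Agent.Lib.Helper5.UR.A

set_option autoImplicit false

namespace Groth.Agent.H5.UR

open TensorProduct KaehlerDifferential

universe u

section

variable {A B : Type u} [CommRing A] [CommRing B] [Algebra A B] (𝔪 : Ideal A)

theorem eq_of_subsingleton [Subsingleton (Ω[(B ⧸ 𝔪.map (algebraMap A B))⁄(A ⧸ 𝔪)])] (k : ℕ)
    {E : Type u} [CommRing E] (J : Ideal E) (hJ : IsNilpotent J) :
    ∀ [Algebra A E], (𝔪 ^ k).map (algebraMap A E) = ⊥ → ∀ v₁ v₂ : B →ₐ[A] E,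
      (∀ b : B, Ideal.Quotient.mk J (v₁ b) = Ideal.Quotient.mk J (v₂ b)) → v₁ = v₂ := by
  apply Ideal.IsNilpotent.induction_on (S := E) J hJ
  · intro S _ J hJ2 _ hk v₁ v₂ h
    letI : Algebra B S := v₂.toRingHom.toAlgebra
    haveI : IsScalarTower A B S := IsScalarTower.of_algebraMap_eq (fun a => (v₂.commutes a).symm)
    have halg : ∀ b, algebraMap B S b = v₂ b := fun b => rfl
    have e : (Ideal.Quotient.mkₐ A J).comp v₁ = IsScalarTower.toAlgHom A B (S ⧸ J) := by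
      ext b
      exact h b
    have hv₂ : ∀ x ∈ (𝔪.map (algebraMap A B)) ^ k, v₂ x = 0 := by
      intro x hx
      rw [← Ideal.map_pow] at hx
      have h1 : v₂ x ∈ ((𝔪 ^ k).map (algebraMap A B)).map v₂.toRingHom :=
        Ideal.mem_map_of_mem _ hx
      rw [Ideal.map_map] at h1
      have h2 : v₂.toRingHom.comp (algebraMap A B) = algebraMap A S := by
        ext a
        exact v₂.commutes a
      rw [h2, hk] at h1
      exact h1
    have hN : ∀ x ∈ (𝔪.map (algebraMap A B)) ^ k, ∀ n : ↥J, x • n = 0 := by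
      intro x hx n
      apply Subtype.ext
      rw [Submodule.coe_smul_of_tower, Algebra.smul_def, halg, hv₂ x hx, zero_mul]
      rfl
    have hD := derivation_eq_zero 𝔪 k hN (derivationToSquareZeroOfLift J hJ2 v₁ e)
    ext b
    have h3 := derivationToSquareZeroOfLift_apply J hJ2 v₁ e b
    rw [hD] at h3
    have h4 : v₁ b - algebraMap B S b = 0 := h3.symm
    rw [sub_eq_zero] at h4
    exact h4
  · intro S _ I J hIJ h₁ h₂ _ hk v₁ v₂ h
    apply h₁ hk
    intro b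
    have hk' : (𝔪 ^ k).map (algebraMap A (S ⧸ I)) = ⊥ := by
      have : algebraMap A (S ⧸ I) = (Ideal.Quotient.mk I).comp (algebraMap A S) := rfl
      rw [this, ← Ideal.map_map, hk, Ideal.map_bot]
    have h5 := h₂ hk' ((Ideal.Quotient.mkₐ A I).comp v₁) ((Ideal.Quotient.mkₐ A I).comp v₂)
      (fun b => by
        rw [Ideal.Quotient.eq]
        change Ideal.Quotient.mk I (v₁ b) - Ideal.Quotient.mk I (v₂ b) ∈ _
        rw [← map_sub]
        exact Ideal.mem_map_of_mem _ (Ideal.Quotient.eq.mp (h b)))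
    exact AlgHom.congr_fun h5 b

theorem unramified_iff :
    (∀ (E : Type u) [CommRing E] [Algebra A E], (∃ k : ℕ, (𝔪 ^ k).map (algebraMap A E) = ⊥) →
      ∀ J : Ideal E, IsNilpotent J → ∀ v₁ v₂ : B →ₐ[A] E,
        (∀ b : B, Ideal.Quotient.mk J (v₁ b) = Ideal.Quotient.mk J (v₂ b)) → v₁ = v₂) ↔
    Subsingleton (Ω[(B ⧸ 𝔪.map (algebraMap A B))⁄(A ⧸ 𝔪)]) := by
  constructor
  · intro H
    suffices hfu : Algebra.FormallyUnramified (A ⧸ 𝔪) (B ⧸ 𝔪.map (algebraMap A B)) from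
      hfu.subsingleton_kaehlerDifferential
    rw [Algebra.FormallyUnramified.iff_comp_injective]
    intro E₀ _ _ I hI f₁ f₂ hf
    letI : Algebra A E₀ := ((algebraMap (A ⧸ 𝔪) E₀).comp (Ideal.Quotient.mk 𝔪)).toAlgebra
    haveI : IsScalarTower A (A ⧸ 𝔪) E₀ := IsScalarTower.of_algebraMap_eq (fun _ => rfl)
    have hk : (𝔪 ^ 1).map (algebraMap A E₀) = ⊥ := by
      rw [pow_one, eq_bot_iff, Ideal.map_le_iff_le_comap]
      intro a ha
      rw [Ideal.mem_comap, Ideal.mem_bot]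
      change algebraMap (A ⧸ 𝔪) E₀ (Ideal.Quotient.mk 𝔪 a) = 0
      rw [Ideal.Quotient.eq_zero_iff_mem.mpr ha, map_zero]
    have h1 := H E₀ ⟨1, hk⟩ I ⟨2, hI⟩
      ((f₁.restrictScalars A).comp (IsScalarTower.toAlgHom A B (B ⧸ 𝔪.map (algebraMap A B))))
      ((f₂.restrictScalars A).comp (IsScalarTower.toAlgHom A B (B ⧸ 𝔪.map (algebraMap A B))))
      (fun b => AlgHom.congr_fun hf (Ideal.Quotient.mk _ b))
    apply AlgHom.ext
    intro x
    obtain ⟨b, rfl⟩ := Ideal.Quotient.mk_surjective x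
    exact AlgHom.congr_fun h1 b
  · intro hS E _ _ ⟨k, hk⟩ J hJ v₁ v₂ h
    exact eq_of_subsingleton 𝔪 k J hJ hk v₁ v₂ h

end

end Groth.Agent.H5.UR
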