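import Mathlib
import Groth.Agent.Lib.Helper5.Car.DL1

set_option autoImplicit false

namespace Groth.Agent.H5.UR

open TensorProduct KaehlerDifferential

universe u

section gen

variable {B : Type u} [CommRing B] (I : Ideal B) (M : Type u) [AddCommGroup M] [Module B M]

lemma subsingleton_adicCompletion_iff :
    Subsingleton (AdicCompletion I M) ↔ ∀ n : ℕ, (I ^ n • ⊤ : Submodule B M) = ⊤ := by
  constructor
  · intro h n
    have hs : Subsingleton (M ⧸ (I ^ n • ⊤ : Submodule B M)) := by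
      refine ⟨fun a b => ?_⟩
      obtain ⟨a', rfl⟩ := AdicCompletion.eval_surjective I M n a
      obtain ⟨b', rfl⟩ := AdicCompletion.eval_surjective I M n b
      rw [Subsingleton.elim a' b']
    exact Submodule.Quotient.subsingleton_iff.mp hs
  · intro h
    refine ⟨fun a b => ?_⟩
    apply AdicCompletion.ext
    intro n
    haveI : Subsingleton (M ⧸ (I ^ n • ⊤ : Submodule B M)) :=
      Submodule.Quotient.subsingleton_iff.mpr (h n)
    exact Subsingleton.elim _ _

end gen

section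

variable {A B : Type u} [CommRing A] [CommRing B] [Algebra A B]

lemma der_mem' {M : Type u} [AddCommGroup M] [Module B M] [Module A M] [IsScalarTower A B M]
    (I : Ideal B) (d : Derivation A B M) (k : ℕ) (x : B) (hx : x ∈ I ^ (k + 1)) :
    d x ∈ (I ^ k • ⊤ : Submodule B M) := by
  induction k generalizing x with
  | zero => rw [pow_zero, Ideal.one_eq_top, Submodule.top_smul]; trivial
  | succ k ih =>
    rw [pow_succ] at hx
    refine Submodule.mul_induction_on hx ?_ ?_
    · intro a ha b hb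
      rw [Derivation.leibniz]
      refine add_mem (Submodule.smul_mem_smul ha trivial) ?_
      have : (I ^ (k + 1) • ⊤ : Submodule B M) = I • (I ^ k • ⊤ : Submodule B M) := by
        rw [pow_succ', Submodule.mul_smul]
      rw [this]
      exact Submodule.smul_mem_smul hb (ih a ha)
    · intro a b ha hb
      rw [map_add]
      exact add_mem ha hb

lemma derivation_eq_zero' (I : Ideal B) (hI : (I • ⊤ : Submodule B (Ω[B⁄A])) = ⊤)
    {N : Type*} [AddCommGroup N] [Module B N] [Module A N] [IsScalarTower A B N]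
    (hN : ∀ x ∈ I, ∀ n : N, x • n = 0) (D : Derivation A B N) :
    D = 0 := by
  have h : ∀ ω : Ω[B⁄A], D.liftKaehlerDifferential ω = 0 := by
    intro ω
    have hω : ω ∈ (I • (⊤ : Submodule B (Ω[B⁄A]))) := by
      rw [hI]; trivial
    refine Submodule.smul_induction_on hω ?_ ?_
    · intro x hx ω' _
      rw [map_smul]
      exact hN x hx _
    · intro a b ha hb
      rw [map_add, ha, hb, add_zero]
  ext b
  rw [← Derivation.liftKaehlerDifferential_comp_D D b, h]
  rfl

theorem eq_of_smul_top_eq_top (𝔟 : Ideal B)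
    (h𝔟 : ∀ n : ℕ, (𝔟 ^ n • ⊤ : Submodule B (Ω[B⁄A])) = ⊤)
    {E : Type u} [CommRing E] (J : Ideal E) (hJ : IsNilpotent J) :
    ∀ [Algebra A E], ∀ v₁ v₂ : B →ₐ[A] E,
      (∃ m : ℕ, ∀ x ∈ 𝔟 ^ m, v₁ x = 0) → (∃ m : ℕ, ∀ x ∈ 𝔟 ^ m, v₂ x = 0) →
      (∀ b : B, Ideal.Quotient.mk J (v₁ b) = Ideal.Quotient.mk J (v₂ b)) → v₁ = v₂ := by
  apply Ideal.IsNilpotent.induction_on (S := E) J hJ
  · intro S _ J hJ2 _ v₁ v₂ _ ⟨m, hm⟩ h
    letI : Algebra B S := v₂.toRingHom.toAlgebra
    haveI : IsScalarTower A B S := IsScalarTower.of_algebraMap_eq (fun a => (v₂.commutes a).symm)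
    have halg : ∀ b, algebraMap B S b = v₂ b := fun b => rfl
    have e : (Ideal.Quotient.mkₐ A J).comp v₁ = IsScalarTower.toAlgHom A B (S ⧸ J) := by
      ext b
      exact h b
    have hN : ∀ x ∈ 𝔟 ^ m, ∀ n : ↥J, x • n = 0 := by
      intro x hx n
      apply Subtype.ext
      rw [Submodule.coe_smul_of_tower, Algebra.smul_def, halg, hm x hx, zero_mul]
      rfl
    have hD := derivation_eq_zero' (𝔟 ^ m) (h𝔟 m) hN (derivationToSquareZeroOfLift J hJ2 v₁ e)
    ext b
    have h3 := derivationToSquareZeroOfLift_apply J hJ2 v₁ e b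
    rw [hD] at h3
    have h4 : v₁ b - algebraMap B S b = 0 := h3.symm
    rw [sub_eq_zero] at h4
    exact h4
  · intro S _ I J hIJ h₁ h₂ _ v₁ v₂ ⟨m₁, hm₁⟩ ⟨m₂, hm₂⟩ h
    apply h₁ v₁ v₂ ⟨m₁, hm₁⟩ ⟨m₂, hm₂⟩
    intro b
    have h5 := h₂ ((Ideal.Quotient.mkₐ A I).comp v₁) ((Ideal.Quotient.mkₐ A I).comp v₂)
      ⟨m₁, fun x hx => by
        change Ideal.Quotient.mk I (v₁ x) = 0
        rw [hm₁ x hx, map_zero]⟩
      ⟨m₂, fun x hx => by
        change Ideal.Quotient.mk I (v₂ x) = 0
        rw [hm₂ x hx, map_zero]⟩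
      (fun b => by
        rw [Ideal.Quotient.eq]
        change Ideal.Quotient.mk I (v₁ b) - Ideal.Quotient.mk I (v₂ b) ∈ _
        rw [← map_sub]
        exact Ideal.mem_map_of_mem _ (Ideal.Quotient.eq.mp (h b)))
    exact AlgHom.congr_fun h5 b

end

end Groth.Agent.H5.UR
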