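import Mathlib
import Groth.Agent.Lib.Helper5.Car.DL1
import Groth.Agent.Lib.Helper5.UR.C

set_option autoImplicit false

namespace Groth.Agent.H5.UR

open TensorProduct KaehlerDifferential H5.PB

attribute [local instance] opMod isCentralScalar_opMod

universe u

section

variable {A B : Type u} [CommRing A] [CommRing B] [Algebra A B]

section key

variable {B' N : Type u} [CommRing B'] [Algebra B B'] [Algebra A B'] [IsScalarTower A B B']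
  [AddCommGroup N] [Module B N] [Module B' N] [IsScalarTower B B' N] [Module A N]
  [IsScalarTower A B N]

theorem derivation_eq_zero_of_unique (𝔞 : Ideal A) (𝔟 : Ideal B)
    (H : ∀ (E : Type u) [CommRing E] [Algebra A E],
      (∃ k : ℕ, (𝔞 ^ k).map (algebraMap A E) = ⊥) →
      ∀ J : Ideal E, IsNilpotent J → ∀ v₁ v₂ : B →ₐ[A] E,
        (∃ m : ℕ, ∀ x ∈ 𝔟 ^ m, v₁ x = 0) → (∃ m : ℕ, ∀ x ∈ 𝔟 ^ m, v₂ x = 0) →
        (∀ b : B, Ideal.Quotient.mk J (v₁ b) = Ideal.Quotient.mk J (v₂ b)) → v₁ = v₂)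
    (n : ℕ) (hB' : ∀ x ∈ 𝔟 ^ n, algebraMap B B' x = 0)
    (K : ℕ) (hdisc : ∀ a ∈ 𝔞 ^ K, algebraMap A B a ∈ 𝔟 ^ n)
    (Dbar : Derivation A B N) (m : ℕ) (hD : ∀ x ∈ 𝔟 ^ m, Dbar x = 0) :
    Dbar = 0 := by
  let ρ₂ : B →+* TrivSqZeroExt B' N := DL.rhoD (S' := B') Dbar
  let ρ₁ : B →+* TrivSqZeroExt B' N :=
    (TrivSqZeroExt.inlHom B' N : B' →+* TrivSqZeroExt B' N).comp (algebraMap B B')
  letI : Algebra A (TrivSqZeroExt B' N) := (ρ₁.comp (algebraMap A B)).toAlgebra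
  have hρ : ∀ a : A, ρ₂ (algebraMap A B a) = ρ₁ (algebraMap A B a) := by
    intro a
    apply TrivSqZeroExt.ext
    · rfl
    · change Dbar (algebraMap A B a) = 0
      exact Dbar.map_algebraMap a
  let v₁ : B →ₐ[A] TrivSqZeroExt B' N := { ρ₁ with commutes' := fun a => rfl }
  let v₂ : B →ₐ[A] TrivSqZeroExt B' N := { ρ₂ with commutes' := fun a => hρ a }
  have hdisc' : (𝔞 ^ K).map (algebraMap A (TrivSqZeroExt B' N)) = ⊥ := by
    rw [eq_bot_iff, Ideal.map_le_iff_le_comap]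
    intro a ha
    rw [Ideal.mem_comap, Ideal.mem_bot]
    change (TrivSqZeroExt.inlHom B' N) (algebraMap B B' (algebraMap A B a)) = 0
    rw [hB' _ (hdisc a ha), map_zero]
  let J : Ideal (TrivSqZeroExt B' N) := RingHom.ker (TrivSqZeroExt.fstHom B' B' N).toRingHom
  have hJ : IsNilpotent J := by
    refine ⟨2, ?_⟩
    rw [pow_two, Ideal.zero_eq_bot, eq_bot_iff, Ideal.mul_le]
    intro x hx y hy
    rw [Ideal.mem_bot]
    have hx' : x.fst = 0 := hx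
    have hy' : y.fst = 0 := hy
    apply TrivSqZeroExt.ext
    · rw [TrivSqZeroExt.fst_mul, hx', zero_mul]; rfl
    · rw [TrivSqZeroExt.snd_mul, hx', hy', zero_smul, MulOpposite.op_zero, zero_smul, add_zero]
      rfl
  have hv₁ : ∀ x ∈ 𝔟 ^ n, v₁ x = 0 := by
    intro x hx
    change (TrivSqZeroExt.inlHom B' N) (algebraMap B B' x) = 0
    rw [hB' x hx, map_zero]
  have hv₂ : ∀ x ∈ 𝔟 ^ (max n m), v₂ x = 0 := by
    intro x hx
    apply TrivSqZeroExt.ext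
    · change algebraMap B B' x = 0
      exact hB' x (Ideal.pow_le_pow_right (le_max_left n m) hx)
    · change Dbar x = 0
      exact hD x (Ideal.pow_le_pow_right (le_max_right n m) hx)
  have hagree : ∀ b : B, Ideal.Quotient.mk J (v₁ b) = Ideal.Quotient.mk J (v₂ b) := by
    intro b
    rw [Ideal.Quotient.eq]
    change (v₁ b - v₂ b).fst = 0
    rw [TrivSqZeroExt.fst_sub]
    exact sub_self _
  have heq := H (TrivSqZeroExt B' N) ⟨K, hdisc'⟩ J hJ v₁ v₂ ⟨n, hv₁⟩ ⟨max n m, hv₂⟩ hagree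
  ext b
  have h1 := congrArg TrivSqZeroExt.snd (AlgHom.congr_fun heq b)
  exact h1.symm

end key

theorem smul_top_eq_top_of_unique (𝔞 : Ideal A) (𝔟 : Ideal B)
    (hAB : ∃ k : ℕ, (𝔞 ^ k).map (algebraMap A B) ≤ 𝔟)
    (H : ∀ (E : Type u) [CommRing E] [Algebra A E],
      (∃ k : ℕ, (𝔞 ^ k).map (algebraMap A E) = ⊥) →
      ∀ J : Ideal E, IsNilpotent J → ∀ v₁ v₂ : B →ₐ[A] E,
        (∃ m : ℕ, ∀ x ∈ 𝔟 ^ m, v₁ x = 0) → (∃ m : ℕ, ∀ x ∈ 𝔟 ^ m, v₂ x = 0) →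
        (∀ b : B, Ideal.Quotient.mk J (v₁ b) = Ideal.Quotient.mk J (v₂ b)) → v₁ = v₂)
    (n : ℕ) : (𝔟 ^ n • ⊤ : Submodule B (Ω[B⁄A])) = ⊤ := by
  obtain ⟨k, hk⟩ := hAB
  let Dbar : Derivation A B ((Ω[B⁄A]) ⧸ (𝔟 ^ n • ⊤ : Submodule B (Ω[B⁄A]))) :=
    ((𝔟 ^ n • ⊤ : Submodule B (Ω[B⁄A])).mkQ).compDer (KaehlerDifferential.D A B)
  have hdisc : ∀ a ∈ 𝔞 ^ (k * n), algebraMap A B a ∈ 𝔟 ^ n := by
    intro a ha
    have h2 : algebraMap A B a ∈ (𝔞 ^ (k * n)).map (algebraMap A B) :=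
      Ideal.mem_map_of_mem _ ha
    rw [pow_mul, Ideal.map_pow] at h2
    exact Ideal.pow_right_mono hk n h2
  have hDb : ∀ x ∈ 𝔟 ^ (n + 1), Dbar x = 0 := by
    intro x hx
    change Submodule.Quotient.mk (KaehlerDifferential.D A B x) = 0
    rw [Submodule.Quotient.mk_eq_zero]
    exact der_mem' 𝔟 (KaehlerDifferential.D A B) n x hx
  have h0 := derivation_eq_zero_of_unique (B' := B ⧸ 𝔟 ^ n) 𝔞 𝔟 H n
    (fun x hx => Ideal.Quotient.eq_zero_iff_mem.mpr hx) (k * n) hdisc Dbar (n + 1) hDb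
  have hD : ∀ b : B, KaehlerDifferential.D A B b ∈ (𝔟 ^ n • ⊤ : Submodule B (Ω[B⁄A])) := by
    intro b
    have h1 : Dbar b = 0 := by rw [h0]; rfl
    have h2 : (Submodule.Quotient.mk (KaehlerDifferential.D A B b) :
      (Ω[B⁄A]) ⧸ (𝔟 ^ n • ⊤ : Submodule B (Ω[B⁄A]))) = 0 := h1
    rwa [Submodule.Quotient.mk_eq_zero] at h2
  rw [eq_top_iff]
  intro ω _
  have hω : ω ∈ Submodule.span B (Set.range (KaehlerDifferential.D A B)) := by
    rw [KaehlerDifferential.span_range_derivation]; trivial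
  exact (Submodule.span_le.mpr (by rintro _ ⟨b, rfl⟩; exact hD b)) hω

theorem unramifiedAdic_iff (𝔞 : Ideal A) (𝔟 : Ideal B)
    (hAB : ∃ k : ℕ, (𝔞 ^ k).map (algebraMap A B) ≤ 𝔟) :
    (∀ (E : Type u) [CommRing E] [Algebra A E], (∃ k : ℕ, (𝔞 ^ k).map (algebraMap A E) = ⊥) →
      ∀ J : Ideal E, IsNilpotent J → ∀ v₁ v₂ : B →ₐ[A] E,
        (∃ m : ℕ, ∀ x ∈ 𝔟 ^ m, v₁ x = 0) → (∃ m : ℕ, ∀ x ∈ 𝔟 ^ m, v₂ x = 0) →
        (∀ b : B, Ideal.Quotient.mk J (v₁ b) = Ideal.Quotient.mk J (v₂ b)) → v₁ = v₂) ↔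
    Subsingleton (AdicCompletion 𝔟 (Ω[B⁄A])) := by
  rw [subsingleton_adicCompletion_iff]
  constructor
  · intro H n
    exact smul_top_eq_top_of_unique 𝔞 𝔟 hAB H n
  · intro h E _ _ _ J hJ v₁ v₂ h₁ h₂ hag
    exact eq_of_smul_top_eq_top 𝔟 h J hJ v₁ v₂ h₁ h₂ hag

end

end Groth.Agent.H5.UR
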